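import Cfsg.Agent.Lib.PGUOrder.Num
import Cfsg.Agent.Lib.Linear.HermStandard
import Cfsg.Agent.S2265

/-!
# A small scalar power of a unitary matrix
-/

set_option autoImplicit false

namespace Cfsg.Lib.PGUOrder

open Polynomial Matrix Cfsg.Lib.Linear.Herm Function

section Orbits

variable {K : Type*} [Field K] {q : ℕ}

/-- The semilinear inversion of a unitary spectrum. -/
def psi (q : ℕ) (z : K) : K := (z ^ q)⁻¹

theorem psi_mul (x y : K) : psi q (x * y) = psi q x * psi q y := by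
  simp [psi, mul_pow, mul_comm]

theorem psi_pow (x : K) (n : ℕ) : psi q (x ^ n) = psi q x ^ n := by
  simp [psi, ← pow_mul, inv_pow, mul_comm]

theorem psi_iterate (r : K) : ∀ i : ℕ, (psi q)^[i] r = r ^ ((-(q : ℤ)) ^ i) := by
  intro i
  induction i with
  | zero => simp
  | succ i ih =>
    rw [iterate_succ_apply', ih, psi, ← zpow_natCast, ← _root_.zpow_mul, ← _root_.zpow_neg, pow_succ]
    congr 1
    ring

theorem pow_T_eq_one (hq : 1 ≤ q) {r : K} (hr : r ≠ 0) {n : ℕ} (h : (psi q)^[n] r = r) :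
    r ^ T q n = 1 := by
  rw [psi_iterate, ← sub_eq_zero] at h
  have h' := sub_eq_zero.1 h
  unfold T
  split_ifs with he
  · rw [he.neg_pow, ← Nat.cast_pow, zpow_natCast] at h'
    refine mul_right_cancel₀ hr ?_
    rw [← pow_succ, Nat.sub_add_cancel (Nat.one_le_pow _ _ hq), h', one_mul]
  · rw [(Nat.not_even_iff_odd.1 he).neg_pow, ← Nat.cast_pow, _root_.zpow_neg, zpow_natCast] at h'
    rw [pow_succ]
    nth_rewrite 2 [← h']
    exact mul_inv_cancel₀ (pow_ne_zero _ hr)

theorem psi_eq_self {x : K} (hx : x ^ (q + 1) = 1) : psi q x = x :=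
  inv_eq_of_mul_eq_one_right (by rw [← pow_succ, hx])

/-- The classes of a multiset invariant under `psi`. -/
theorem exists_classes [DecidableEq K] (hq : 2 ≤ q) (R : Multiset K) (hinj : Injective (psi q : K → K))
    (h0 : ∀ r ∈ R, r ≠ 0) (hR : R.map (psi q) = R) :
    ∃ (𝒞 : Finset (Finset K)) (e : Finset K → ℕ), (∀ C ∈ 𝒞, 1 ≤ C.card ∧ 1 ≤ e C) ∧
      (∑ C ∈ 𝒞, C.card * e C = R.card) ∧
      (∀ r ∈ R, ∃ C ∈ 𝒞, r ∈ C ∧ R.count r = e C ∧ r ^ T q C.card = 1) ∧
      ∀ C ∈ 𝒞, ∀ r ∈ C, ∀ x ∈ C, r ^ A q C.card = x ^ A q C.card ∧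
        (r ^ A q C.card) ^ (q + 1) = 1 := by
  classical
  have hmem : ∀ r ∈ R, ∀ i, (psi q)^[i] r ∈ R := by
    intro r hr i
    induction i with
    | zero => exact hr
    | succ i ih => rw [iterate_succ_apply', ← hR]; exact Multiset.mem_map_of_mem _ ih
  have hcount : ∀ (x : K) (i : ℕ), R.count ((psi q)^[i] x) = R.count x := by
    intro x i
    induction i with
    | zero => rfl
    | succ i ih =>
      rw [iterate_succ_apply']
      conv_lhs => rw [← hR]
      rw [Multiset.count_map_eq_count' _ _ hinj, ih]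
  have hper : ∀ r ∈ R, r ∈ periodicPts (psi q : K → K) := by
    intro r hr
    obtain ⟨i, -, j, -, hne, he⟩ := Finset.exists_ne_map_eq_of_card_lt_of_maps_to
      (s := Finset.range (R.toFinset.card + 1)) (t := R.toFinset)
      (f := fun i => (psi q)^[i] r) (by simp) (fun i _ => Multiset.mem_toFinset.2 (hmem r hr i))
    have key : ∀ a b : ℕ, a < b → (psi q)^[a] r = (psi q)^[b] r →
        r ∈ periodicPts (psi q : K → K) := fun a b hab h => by
      refine mk_mem_periodicPts (n := b - a) (by omega) ((hinj.iterate a) ?_)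
      rw [← iterate_add_apply, Nat.add_sub_cancel' hab.le, h]
    rcases lt_or_gt_of_ne hne with h | h
    · exact key i j h he
    · exact key j i h he.symm
  let Cl : K → Finset K := fun r =>
    (Finset.range (minimalPeriod (psi q) r)).image fun i => (psi q)^[i] r
  have hcard : ∀ r, (Cl r).card = minimalPeriod (psi q) r := fun r => by
    rw [Finset.card_image_of_injOn, Finset.card_range]
    intro i hi j hj h
    exact iterate_injOn_Iio_minimalPeriod (Set.mem_Iio.2 (Finset.mem_range.1 hi))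
      (Set.mem_Iio.2 (Finset.mem_range.1 hj)) h
  have hCl : ∀ r ∈ R, ∀ x, x ∈ Cl r ↔ ∃ i, (psi q)^[i] r = x := by
    intro r hr x
    simp only [Cl, Finset.mem_image, Finset.mem_range]
    refine ⟨fun ⟨i, _, h⟩ => ⟨i, h⟩, fun ⟨i, h⟩ => ⟨i % minimalPeriod (psi q) r,
      Nat.mod_lt _ (minimalPeriod_pos_of_mem_periodicPts (hper r hr)), ?_⟩⟩
    rw [iterate_mod_minimalPeriod_eq, h]
  have heq : ∀ r ∈ R, ∀ x ∈ Cl r, x ∈ R ∧ Cl x = Cl r := by
    intro r hr x hx
    obtain ⟨i, rfl⟩ := (hCl r hr x).1 hx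
    refine ⟨hmem r hr i, Finset.ext fun y => ?_⟩
    rw [hCl _ (hmem r hr i), hCl r hr]
    constructor
    · rintro ⟨j, rfl⟩; exact ⟨j + i, by rw [iterate_add_apply]⟩
    · rintro ⟨j, rfl⟩
      have hn := minimalPeriod_pos_of_mem_periodicPts (hper r hr)
      refine ⟨j + (minimalPeriod (psi q) r * i - i), ?_⟩
      rw [← iterate_add_apply, add_assoc, Nat.sub_add_cancel (Nat.le_mul_of_pos_left i hn),
        iterate_add_apply, ((isPeriodicPt_minimalPeriod (psi q) r).mul_const i).eq]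
  have hself : ∀ r ∈ R, r ∈ Cl r := fun r hr => (hCl r hr r).2 ⟨0, rfl⟩
  refine ⟨R.toFinset.image Cl, fun C => C.sup fun x => R.count x, ?_, ?_, ?_, ?_⟩
  · intro C hC
    obtain ⟨r, hr, rfl⟩ := Finset.mem_image.1 hC
    rw [Multiset.mem_toFinset] at hr
    exact ⟨Finset.card_pos.2 ⟨r, hself r hr⟩, (Multiset.one_le_count_iff_mem.2 hr).trans
      (Finset.le_sup (f := fun x => R.count x) (hself r hr))⟩
  · rw [← Multiset.toFinset_sum_count_eq R,
      ← Finset.sum_fiberwise_of_maps_to (g := Cl) (t := R.toFinset.image Cl)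
        (fun x hx => Finset.mem_image_of_mem _ hx) (fun x => R.count x)]
    refine Finset.sum_congr rfl fun C hC => ?_
    obtain ⟨r, hr, rfl⟩ := Finset.mem_image.1 hC
    rw [Multiset.mem_toFinset] at hr
    have hfib : (R.toFinset.filter fun x => Cl x = Cl r) = Cl r := by
      ext x
      rw [Finset.mem_filter, Multiset.mem_toFinset]
      exact ⟨fun ⟨hx, h⟩ => h ▸ hself x hx, fun hx => heq r hr x hx⟩
    rw [hfib]
    have hc : ∀ x ∈ Cl r, R.count x = R.count r := fun x hx => by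
      obtain ⟨i, rfl⟩ := (hCl r hr x).1 hx
      exact hcount r i
    rw [Finset.sum_congr rfl hc, Finset.sum_const, smul_eq_mul]
    congr 1
    exact le_antisymm (Finset.sup_le fun x hx => (hc x hx).le)
      (Finset.le_sup (f := fun x => R.count x) (hself r hr))
  · intro r hr
    refine ⟨Cl r, Finset.mem_image_of_mem _ (Multiset.mem_toFinset.2 hr), hself r hr,
      le_antisymm (Finset.le_sup (f := fun x => R.count x) (hself r hr)) (Finset.sup_le fun x hx => ?_), ?_⟩
    · obtain ⟨i, rfl⟩ := (hCl r hr x).1 hx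
      exact (hcount r i).le
    · rw [hcard]
      exact pow_T_eq_one (by omega) (h0 r hr) (isPeriodicPt_minimalPeriod (psi q) r).eq
  · intro C hC r hrC x hxC
    obtain ⟨r0, hr0, rfl⟩ := Finset.mem_image.1 hC
    rw [Multiset.mem_toFinset] at hr0
    have hone : ∀ y ∈ Cl r0, (y ^ A q (Cl r0).card) ^ (q + 1) = 1 := fun y hy => by
      rw [← pow_mul, mul_comm, mul_A, ← (heq r0 hr0 y hy).2, hcard]
      exact pow_T_eq_one (by omega) (h0 y (heq r0 hr0 y hy).1)
        (isPeriodicPt_minimalPeriod (psi q) y).eq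
    have hsame : ∀ i, ((psi q)^[i] r0) ^ A q (Cl r0).card = r0 ^ A q (Cl r0).card := by
      intro i
      induction i with
      | zero => rfl
      | succ i ih => rw [iterate_succ_apply', ← psi_pow, ih, psi_eq_self (hone r0 (hself r0 hr0))]
    obtain ⟨i, rfl⟩ := (hCl r0 hr0 r).1 hrC
    obtain ⟨j, rfl⟩ := (hCl r0 hr0 x).1 hxC
    exact ⟨by rw [hsame, hsame], hone _ hrC⟩

end Orbits

variable {F : Type*} [Field F] [Fintype F] {q : ℕ}

theorem mem_range_of_pow_eq (hF : Fintype.card F = q ^ 2) {K : Type*} [Field K] (φ : F →+* K)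
    {x : K} (hx : x ^ (q + 1) = 1) : ∃ c : F, φ c = x := by
  classical
  have hq := two_le_q hF
  have h1 : x ^ Fintype.card F = x := by
    have h2 : q ^ 2 = (q + 1) * (q - 1) + 1 := by
      rw [← Nat.sq_sub_sq, one_pow, Nat.sub_add_cancel (Nat.one_le_pow _ _ (by omega))]
    rw [hF, h2, pow_succ, pow_mul, hx, one_pow, one_mul]
  have hsplit : ((X : F[X]) ^ Fintype.card F - X).Splits := by
    rw [Polynomial.splits_iff_card_roots, FiniteField.roots_X_pow_card_sub_X,
      FiniteField.X_pow_card_sub_X_natDegree_eq F Fintype.one_lt_card]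
    simp
  have hne : ((X : F[X]) ^ Fintype.card F - X).map φ ≠ 0 :=
    (Polynomial.map_ne_zero_iff φ.injective).2 (FiniteField.X_pow_card_sub_X_ne_zero F Fintype.one_lt_card)
  have hmem : x ∈ (((X : F[X]) ^ Fintype.card F - X).map φ).roots := by
    rw [mem_roots hne, IsRoot, Polynomial.map_sub, Polynomial.map_pow, map_X, eval_sub, eval_pow,
      eval_X, h1, sub_self]
  rw [hsplit.roots_map φ, Multiset.mem_map] at hmem
  obtain ⟨c, -, hc⟩ := hmem
  exact ⟨c, hc⟩

/-- A unitary matrix has a scalar power with small exponent. -/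
theorem exists_scalar_pow {p f d B : ℕ} [Fact p.Prime] [CharP F p] (hF : Fintype.card F = q ^ 2)
    (hf : 1 ≤ f) (hq : q = p ^ f) (hd : 3 ≤ d) (h32 : ¬ (d = 3 ∧ q = 2))
    (hB1 : q ^ (d - 1) ≤ B + 1) (hB2 : Even d → q ^ (d - 1) + 1 ≤ B)
    (hB3 : q = p → Odd d → (p ^ (d - 2) + 1) * p ≤ B)
    (hB4 : q = 2 → Even d → 4 * (2 ^ (d - 3) + 1) ≤ B)
    {M : Matrix (Fin d) (Fin d) F} (hM : (M.map (frob hF))ᵀ * M = 1) :
    ∃ (E : ℕ) (c : F), 0 < E ∧ E ≤ B ∧ M ^ E = c • (1 : Matrix (Fin d) (Fin d) F) := by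
  classical
  have hq2 := two_le_q hF
  haveI : CharP (AlgebraicClosure F) p :=
    charP_of_injective_algebraMap (algebraMap F (AlgebraicClosure F)).injective p
  set φ := algebraMap F (AlgebraicClosure F)
  set R := (M.charpoly.map φ).roots with hRdef
  have hmonic : (M.charpoly.map φ).Monic := M.charpoly_monic.map _
  have hsplit : (M.charpoly.map φ).Splits := IsAlgClosed.splits _
  have hcard : R.card = d := by
    rw [hRdef, ← hsplit.natDegree_eq_card_roots, Polynomial.natDegree_map,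
      Matrix.charpoly_natDegree_eq_dim, Fintype.card_fin]
  have hdet : M.det ≠ 0 := fun h => by
    have h1 := congrArg Matrix.det hM
    rw [Matrix.det_mul, h, mul_zero, Matrix.det_one] at h1
    exact zero_ne_one h1
  have hunit : IsUnit M := (Matrix.isUnit_iff_isUnit_det M).2 (isUnit_iff_ne_zero.2 hdet)
  have hinv := Matrix.charpoly_inv M hunit
  rw [Matrix.inv_eq_left_inv hM, Matrix.charpoly_transpose, Matrix.charpoly_map,
    ← Matrix.reverse_charpoly, Ring.inverse_eq_inv] at hinv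
  let Φ : AlgebraicClosure F →+* AlgebraicClosure F := iterateFrobenius (AlgebraicClosure F) p f
  have hΦ : ∀ z, Φ z = z ^ q := fun z => by rw [hq]; exact iterateFrobenius_def p f z
  have hcomm : φ.comp (frob hF) = Φ.comp φ := RingHom.ext fun x => by
    simp [hΦ, frob_apply hF]
  have h0 : ∀ r ∈ R, r ≠ 0 := by
    rintro r hr rfl
    have h := (Polynomial.mem_roots hmonic.ne_zero).1 hr
    rw [IsRoot, ← coeff_zero_eq_eval_zero, coeff_map, Matrix.det_eq_sign_charpoly_coeff] at *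
    rw [(map_eq_zero φ).1 h, mul_zero] at hdet
    exact hdet rfl
  have hmap : R.map (psi q) = R := by
    obtain ⟨c, hc, e⟩ := Cfsg.Agent.S2265.reverse_prod R h0
    have h1 : ((M.charpoly.map (frob hF)).map φ).roots = R.map Φ := by
      rw [Polynomial.map_map, hcomm, ← Polynomial.map_map, hsplit.roots_map]
    have h2 : ((M.charpoly.map (frob hF)).map φ).roots = R.map (·⁻¹) := by
      rw [hinv]
      simp only [Polynomial.map_mul, Polynomial.map_pow, Polynomial.map_neg, Polynomial.map_one, map_C]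
      rw [show ((-1 : (AlgebraicClosure F)[X]) ^ Fintype.card (Fin d)) =
        C ((-1 : AlgebraicClosure F) ^ Fintype.card (Fin d)) by simp, ← C_mul,
        roots_C_mul _ (mul_ne_zero (pow_ne_zero _ (neg_ne_zero.2 one_ne_zero))
          ((map_ne_zero φ).2 (inv_ne_zero hdet)))]
      rw [show M.charpoly.reverse.map φ = (M.charpoly.map φ).reverse by
        refine Polynomial.ext fun i => ?_
        rw [coeff_reverse, natDegree_map, coeff_map, coeff_map, coeff_reverse]]
      conv_lhs => rw [hsplit.eq_prod_roots_of_monic hmonic, ← hRdef, e, roots_C_mul _ hc,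
        roots_multiset_prod_X_sub_C]
    calc R.map (psi q) = (R.map Φ).map (·⁻¹) := by
          rw [Multiset.map_map]
          exact Multiset.map_congr rfl fun z _ => by simp [psi, hΦ]
      _ = (R.map (·⁻¹)).map (·⁻¹) := by rw [← h1, h2]
      _ = R := by simp [Multiset.map_map]
  have hinj : Injective (psi q : AlgebraicClosure F → AlgebraicClosure F) := fun a b h =>
    Φ.injective (by rw [hΦ, hΦ]; exact inv_injective h)
  obtain ⟨𝒞, e, hC1, hsum, hroot, hconst⟩ := exists_classes hq2 R hinj h0 hmap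
  rw [hcard] at hsum
  obtain ⟨s, hs, hone, hmany⟩ := exponent_bound (p := p) (f := f) (B := B) Fact.out hf hq hd h32
    hB1 hB2 hB3 hB4 𝒞 (fun C => C.card) e (fun C hC => (hC1 C hC).1) (fun C hC => (hC1 C hC).2) hsum
  have hcnt : ∀ r, R.count r ≤ p ^ s := fun r => by
    by_cases hr : r ∈ R
    · obtain ⟨C, hC, -, he, -⟩ := hroot r hr
      exact he ▸ hs C hC
    · rw [Multiset.count_eq_zero.2 hr]; exact Nat.zero_le _
  have hp0 : 0 < p ^ s := pow_pos (Nat.Prime.pos Fact.out) _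
  by_cases hc1 : 𝒞.card = 1
  · obtain ⟨C, rfl⟩ := Finset.card_eq_one.1 hc1
    have hC := hC1 C (Finset.mem_singleton_self C)
    obtain ⟨r0, hr0⟩ := Finset.card_pos.1 hC.1
    obtain ⟨c, hc⟩ := mem_range_of_pow_eq hF φ
      (hconst C (Finset.mem_singleton_self C) r0 hr0 r0 hr0).2
    have hA := A_pos hq2 hC.1
    refine ⟨A q C.card * p ^ s, c ^ p ^ s, Nat.mul_pos hA hp0, hone C rfl, ?_⟩
    refine Cfsg.Agent.S2265.pow_eq_of_roots M c hA (fun r hr => ?_) (fun r => hcnt r)
    obtain ⟨C', hC', hrC, -, -⟩ := hroot r hr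
    rw [Finset.mem_singleton] at hC'
    subst hC'
    rw [(hconst C' (Finset.mem_singleton_self C') r hrC r0 hr0).1]
    exact hc.symm
  · have h2 : 2 ≤ 𝒞.card := by
      rcases Nat.lt_or_ge 𝒞.card 1 with h | h
      · rw [Finset.card_eq_zero.1 (by omega : 𝒞.card = 0), Finset.sum_empty] at hsum
        omega
      · omega
    have hN : 0 < (q + 1) * ∏ C ∈ 𝒞, A q C.card :=
      Nat.mul_pos (Nat.succ_pos _) (Finset.prod_pos fun C hC => A_pos hq2 (hC1 C hC).1)
    refine ⟨(q + 1) * (∏ C ∈ 𝒞, A q C.card) * p ^ s, (1 : F) ^ p ^ s, Nat.mul_pos hN hp0,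
      hmany h2, ?_⟩
    refine Cfsg.Agent.S2265.pow_eq_of_roots M 1 hN (fun r hr => ?_) (fun r => hcnt r)
    obtain ⟨C, hC, -, -, hT⟩ := hroot r hr
    obtain ⟨t, ht⟩ := Finset.dvd_prod_of_mem (fun C => A q C.card) hC
    rw [ht, ← mul_assoc, mul_A, pow_mul, hT, one_pow, map_one]

/-- The bound on element orders modulo the centre. -/
theorem order_le {p f d B : ℕ} [Fact p.Prime] [CharP F p] (hF : Fintype.card F = q ^ 2)
    (hf : 1 ≤ f) (hq : q = p ^ f) (hd : 3 ≤ d) (h32 : ¬ (d = 3 ∧ q = 2))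
    (hB1 : q ^ (d - 1) ≤ B + 1) (hB2 : Even d → q ^ (d - 1) + 1 ≤ B)
    (hB3 : q = p → Odd d → (p ^ (d - 2) + 1) * p ≤ B)
    (hB4 : q = 2 → Even d → 4 * (2 ^ (d - 3) + 1) ≤ B)
    (hmem : ∀ g : ↥(Cfsg.GU d F q),
      (((g : GL (Fin d) F) : Matrix (Fin d) (Fin d) F).map (frob hF))ᵀ *
        ((g : GL (Fin d) F) : Matrix (Fin d) (Fin d) F) = 1)
    (g : ↥(Cfsg.GU d F q) ⧸ Subgroup.center ↥(Cfsg.GU d F q)) : orderOf g ≤ B := by
  obtain ⟨x, rfl⟩ := QuotientGroup.mk_surjective g
  obtain ⟨E, c, hE0, hE, hxE⟩ := exists_scalar_pow hF hf hq hd h32 hB1 hB2 hB3 hB4 (hmem x)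
  refine le_trans (orderOf_le_of_pow_eq_one hE0 ?_) hE
  rw [← QuotientGroup.mk_pow, QuotientGroup.eq_one_iff, Subgroup.mem_center_iff]
  intro y
  refine Subtype.ext (Units.ext ?_)
  simp only [Subgroup.coe_mul, SubmonoidClass.coe_pow, Units.val_mul, Units.val_pow_eq_pow_val]
  rw [hxE]
  simp

end Cfsg.Lib.PGUOrder
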