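import Cfsg.Agent.Lib.PGUOrder.Num
import Cfsg.Agent.Lib.Linear.AbsorbPSUElems
import Cfsg.Agent.Lib.Linear.UnitaryCenter
import Cfsg.Agent.S2496

/-!
# Unitary matrices of large projective order
-/

set_option autoImplicit false

namespace Cfsg.Lib.PGUOrder

open Matrix Cfsg.Lib.Linear.AbsorbPSU
open Cfsg.Lib.Linear.Herm (frob frob_apply frob_frob frob_ne_id two_le_q)

variable {F : Type*} [Field F] [Fintype F] {q : ℕ} (hF : Fintype.card F = q ^ 2)
  (p : ℕ) [Fact p.Prime] [CharP F p]

include hF in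
theorem transport_order {ι : Type*} [Fintype ι] [DecidableEq ι] {n : ℕ} (hι : Fintype.card ι = n)
    {H : Matrix ι ι F} (hH : ad (frob hF) H = H) (hdet : IsUnit H.det) (X : Matrix ι ι F)
    (hX : ad (frob hF) X * H * X = H) :
    ∃ N : Matrix (Fin n) (Fin n) F, ad (frob hF) N * N = 1 ∧ orderOf N = orderOf X := by
  obtain ⟨ψ, hinj, -, hiso, -⟩ := exists_transport hF hι hH hdet
  exact ⟨ψ X, hiso X hX, orderOf_injective (ψ : Matrix ι ι F →* Matrix (Fin n) (Fin n) F) hinj X⟩

include hF p in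
theorem exists_unitary_even {j : ℕ} (hj : 1 ≤ j) :
    ∃ N : Matrix (Fin (j + j)) (Fin (j + j)) F,
      ad (frob hF) N * N = 1 ∧ orderOf N = q ^ (j + j) - 1 := by
  classical
  set σ := frob hF
  have hσσ : ∀ x, σ (σ x) = x := frob_frob hF
  haveI : NeZero j := ⟨by omega⟩
  let K := FiniteField.Extension F p j
  let β : Module.Basis (Fin j) F K :=
    (Module.finBasis F K).reindex (finCongr (FiniteField.finrank_extension F p j))
  obtain ⟨ω, hω⟩ := IsCyclic.exists_ofOrder_eq_natCard (α := Kˣ)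
  rw [Nat.card_units, FiniteField.natCard_extension, Nat.card_eq_fintype_card, hF, ← pow_mul,
    two_mul] at hω
  set A := Algebra.leftMulMatrix β (ω : K) with hA
  set A' := ad σ (Algebra.leftMulMatrix β ((ω⁻¹ : Kˣ) : K)) with hA'
  set X : Matrix (Fin j ⊕ Fin j) (Fin j ⊕ Fin j) F := fromBlocks A 0 0 A' with hXdef
  have hAA : Algebra.leftMulMatrix β ((ω⁻¹ : Kˣ) : K) * A = 1 := by
    rw [hA, ← map_mul, Units.inv_mul, map_one]
  have hAA' : ad σ A * A' = 1 := by rw [hA', ← ad_mul, hAA, ad_one]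
  have hord : orderOf X = orderOf ω := by
    refine orderOf_eq_orderOf_iff.2 fun n => ?_
    rw [hXdef, fromBlocks_diagonal_pow, ← fromBlocks_one, fromBlocks_inj]
    constructor
    · rintro ⟨h, -, -, -⟩
      rw [hA, ← map_pow, ← map_one (Algebra.leftMulMatrix β)] at h
      exact Units.ext (by simpa using Algebra.leftMulMatrix_injective β h)
    · intro h
      refine ⟨?_, rfl, rfl, ?_⟩
      · rw [hA, ← map_pow, ← Units.val_pow_eq_pow_val, h, Units.val_one, map_one]
      · rw [hA', ← ad_pow, ← map_pow, ← Units.val_pow_eq_pow_val, inv_pow, h, inv_one,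
          Units.val_one, map_one, ad_one]
  obtain ⟨hH, hHdet, hiso⟩ := perm_form σ (ι := Fin j ⊕ Fin j) (π := Sum.swap) Sum.swap_swap
  have hX : (ad σ X).submatrix Sum.swap Sum.swap * X = 1 := by
    have e : (ad σ X).submatrix Sum.swap Sum.swap = fromBlocks (ad σ A') 0 0 (ad σ A) := by
      ext (i | i) (k | k) <;> simp [hXdef, ad]
    rw [e, hXdef, fromBlocks_multiply,
      show ad σ A' * A = 1 by rw [hA', ad_ad σ hσσ]; exact hAA, hAA']
    simp [fromBlocks_one]
  obtain ⟨N, hN, hNo⟩ := transport_order hF (n := j + j) (by simp) hH hHdet X (hiso X hX)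
  exact ⟨N, hN, by rw [hNo, hord, hω]⟩

include hF p in
theorem exists_unitary_odd {n : ℕ} (hn : Odd n) :
    ∃ N : Matrix (Fin n) (Fin n) F, ad (frob hF) N * N = 1 ∧ orderOf N = q ^ n + 1 := by
  classical
  obtain ⟨⟨a, -, hqa⟩, hq2⟩ := Spec.UThree.char_facts p hF
  set σ := frob hF
  have hcardF : ∀ c : F, c ^ q ^ 2 = c := fun c => by rw [← hF, FiniteField.pow_card]
  obtain ⟨t, ht⟩ := hn
  have : NeZero n := ⟨by omega⟩
  let K := FiniteField.Extension F p n
  let : Fintype K := Fintype.ofFinite K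
  have : CharP K p := charP_of_injective_algebraMap (algebraMap F K).injective p
  let β : Module.Basis (Fin n) F K :=
    (Module.finBasis F K).reindex (finCongr (FiniteField.finrank_extension F p n))
  have hcardK : Fintype.card K = (q ^ 2) ^ n := by
    rw [← Nat.card_eq_fintype_card, FiniteField.natCard_extension, Nat.card_eq_fintype_card, hF]
  let φ : K →+* K := iterateFrobenius K p a
  have hφ : ∀ x, φ x = x ^ q := fun x => by
    show iterateFrobenius K p a x = _
    rw [iterateFrobenius_def, hqa]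
  let θ : K →+* K := iterateFrobenius K p (a * n)
  have hθ : ∀ x, θ x = x ^ (q ^ n) := fun x => by
    show iterateFrobenius K p (a * n) x = _
    rw [iterateFrobenius_def, pow_mul, hqa]
  have hθθ : ∀ x, θ (θ x) = x := fun x => by
    rw [hθ, hθ, ← pow_mul, ← mul_pow, ← sq, ← hcardK, FiniteField.pow_card]
  have hqn : ∀ c : F, c ^ (q ^ n) = c ^ q := fun c => by
    rw [ht, pow_succ, pow_mul q, pow_mul]
    congr 1
    clear ht
    induction t with
    | zero => simp
    | succ t ih => rw [pow_succ, pow_mul, ih, hcardF]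
  have hθσ : ∀ (c : F) (x : K), θ (c • x) = σ c • θ x := fun c x => by
    rw [Algebra.smul_def, Algebra.smul_def, RingHom.map_mul θ, hθ (algebraMap F K c), ← map_pow,
      hqn, frob_apply]
  have htr : ∀ z : K, σ (Algebra.trace F K z) = Algebra.trace F K (θ z) := by
    intro z
    have h1 : Algebra.trace F K (θ z) = Algebra.trace F K (φ z) := by
      have h2 := Algebra.trace_eq_of_algEquiv ((FiniteField.Extension.frob F p n) ^ t) (φ z)
      rw [FiniteField.Extension.frob_iterate_apply, Nat.card_eq_fintype_card, hF, hφ, ← pow_mul,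
        ← pow_mul q, ← pow_succ', ← ht] at h2
      rw [hθ, hφ]
      exact h2
    rw [h1]
    apply (algebraMap F K).injective
    rw [frob_apply, map_pow, ← hφ, FiniteField.algebraMap_trace_eq_sum_pow,
      FiniteField.algebraMap_trace_eq_sum_pow, map_sum]
    exact Finset.sum_congr rfl fun i _ => map_pow φ z _
  set G : Matrix (Fin n) (Fin n) F :=
    Matrix.of fun i j => Algebra.trace F K (θ (β i) * β j) with hG
  have hGad : ad σ G = G := by
    ext i j
    show σ (Algebra.trace F K (θ (β j) * β i)) = Algebra.trace F K (θ (β i) * β j)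
    rw [htr, RingHom.map_mul θ, hθθ, mul_comm]
  have hGright : ∀ (x : Fin n → F) i,
      (G *ᵥ x) i = Algebra.trace F K (θ (β i) * β.equivFun.symm x) := by
    intro x i
    rw [β.equivFun_symm_apply, Finset.mul_sum, map_sum, Matrix.mulVec, dotProduct]
    exact Finset.sum_congr rfl fun k _ => by
      rw [mul_smul_comm, map_smul, smul_eq_mul, mul_comm]; rfl
  have hGdet : IsUnit G.det := by
    refine isUnit_iff_ne_zero.2 fun h0 => ?_
    obtain ⟨x, hx, hGx⟩ := Matrix.exists_mulVec_eq_zero_iff.2 h0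
    refine hx (β.equivFun.symm.injective ?_)
    rw [map_zero]
    refine (traceForm_nondegenerate F K).2 _ fun y => ?_
    rw [Algebra.traceForm_apply]
    obtain ⟨z, rfl⟩ : ∃ z, θ z = y := ⟨θ y, hθθ y⟩
    conv_lhs => rw [← β.sum_repr z]
    rw [map_sum, Finset.sum_mul, map_sum]
    refine Finset.sum_eq_zero fun i _ => ?_
    rw [hθσ, smul_mul_assoc, map_smul, ← hGright, hGx, Pi.zero_apply, smul_zero]
  obtain ⟨ω, hω⟩ := IsCyclic.exists_ofOrder_eq_natCard (α := Kˣ)
  rw [Nat.card_units, Nat.card_eq_fintype_card, hcardK] at hω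
  have hfac : (q ^ 2) ^ n - 1 = (q ^ n - 1) * (q ^ n + 1) := by
    rw [← pow_mul, mul_comm 2 n, pow_mul, show (q ^ n) ^ 2 - 1 = (q ^ n) ^ 2 - 1 ^ 2 by simp,
      Nat.sq_sub_sq, mul_comm]
  have hpos : 0 < q ^ n - 1 := Nat.sub_pos_of_lt (Nat.one_lt_pow (by omega) (by omega))
  set u : Kˣ := ω ^ (q ^ n - 1)
  have huo : orderOf u = q ^ n + 1 := by
    rw [orderOf_pow' _ (by omega), hω, hfac, Nat.gcd_eq_right (dvd_mul_right _ _),
      Nat.mul_div_cancel_left _ hpos]
  have huu : θ (u : K) * u = 1 := by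
    rw [hθ, ← pow_succ, ← Units.val_pow_eq_pow_val, ← huo, pow_orderOf_eq_one, Units.val_one]
  set X := Algebra.leftMulMatrix β (u : K) with hXdef
  have hX : ad σ X * G * X = G := by
    ext i j
    rw [Matrix.mul_assoc, Matrix.mul_apply]
    have hcol : ∀ k, (G * X) k j = Algebra.trace F K (θ (β k) * ((u : K) * β j)) := fun k => by
      rw [← β.equivFun.symm_apply_apply ((u : K) * β j), ← hGright, Matrix.mul_apply]
      exact Finset.sum_congr rfl fun l _ => by
        show G k l * (Algebra.leftMulMatrix β (u : K)) l j = G k l * _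
        rw [Algebra.leftMulMatrix_eq_repr_mul, β.equivFun_apply]
    simp only [hcol, ad, Matrix.transpose_apply, Matrix.map_apply, X,
      Algebra.leftMulMatrix_eq_repr_mul]
    show _ = Algebra.trace F K (θ (β i) * β j)
    rw [show θ (β i) * β j = θ ((u : K) * β i) * ((u : K) * β j) by
      rw [RingHom.map_mul θ]; linear_combination -(θ (β i) * β j) * huu]
    conv_rhs => rw [← β.sum_repr ((u : K) * β i)]
    rw [map_sum, Finset.sum_mul, map_sum]
    exact Finset.sum_congr rfl fun k _ => by rw [hθσ, smul_mul_assoc, map_smul, smul_eq_mul]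
  obtain ⟨N, hN, hNo⟩ := transport_order hF (Fintype.card_fin n) hGad hGdet X hX
  refine ⟨N, hN, ?_⟩
  rw [hNo, hXdef, ← huo, ← orderOf_units]
  exact orderOf_injective
    (Algebra.leftMulMatrix β : K →* Matrix (Fin n) (Fin n) F)
    (Algebra.leftMulMatrix_injective β) (u : K)

include hF p in
theorem exists_unitary {k : ℕ} (hk : 1 ≤ k) :
    ∃ N : Matrix (Fin k) (Fin k) F, ad (frob hF) N * N = 1 ∧ orderOf N = T q k := by
  rcases Nat.even_or_odd k with he | ho
  · rw [T, if_pos he]
    obtain ⟨j, rfl⟩ := he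
    exact exists_unitary_even hF p (by omega)
  · rw [T, if_neg (Nat.not_even_iff_odd.2 ho)]
    exact exists_unitary_odd hF p ho

include hF p in
/-- A transvection. -/
theorem exists_unipotent_two :
    ∃ N : Matrix (Fin 2) (Fin 2) F, ad (frob hF) N * N = 1 ∧ orderOf N = p := by
  classical
  set σ := frob hF
  obtain ⟨b, hb, hb0⟩ := exists_theta hF (0 : Fin 2)
  have hbne : b ≠ 0 := hb0 rfl
  have hsum : σ b + b = 0 := by simpa [add_comm] using hb
  set U : Matrix (Fin 2) (Fin 2) F := !![1, b; 0, 1] with hU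
  have hpow : ∀ n : ℕ, U ^ n = !![1, (n : F) * b; 0, 1] := by
    intro n
    induction n with
    | zero => simp [Matrix.one_fin_two]
    | succ n ih => rw [pow_succ, ih, hU, Matrix.mul_fin_two]; simp; ring
  have hord : orderOf U = p := by
    refine orderOf_eq_prime ?_ ?_
    · rw [hpow, CharP.cast_eq_zero, zero_mul, Matrix.one_fin_two]
    · intro h
      refine hbne ?_
      have := congrFun (congrFun h 0) 1
      simpa [hU] using this
  obtain ⟨hH, hHdet, hiso⟩ := perm_form σ (ι := Fin 2) (π := Fin.rev) Fin.rev_rev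
  obtain ⟨N, hN, hNo⟩ := transport_order hF (Fintype.card_fin 2) hH hHdet U (hiso U (by
    ext i j
    fin_cases i <;> fin_cases j <;> simp [Matrix.mul_apply, Fin.sum_univ_two, ad, hU, hsum, Fin.rev]
    linear_combination hsum))
  exact ⟨N, hN, hNo.trans hord⟩

include hF in
/-- A regular unipotent element in dimension three. -/
theorem exists_unipotent_three (hq : q = 2) :
    ∃ N : Matrix (Fin 3) (Fin 3) F, ad (frob hF) N * N = 1 ∧ orderOf N = 2 ^ 2 := by
  classical
  haveI : Fact (Nat.Prime 2) := ⟨Nat.prime_two⟩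
  haveI : CharP F 2 := charP_of_card_eq_prime_pow (f := 2) (by rw [hF, hq])
  have h2 : (2 : F) = 0 := CharP.cast_eq_zero F 2
  have h11 : (1 : F) + 1 = 0 := by rw [one_add_one_eq_two, h2]
  set σ := frob hF
  obtain ⟨w, hw, -⟩ := exists_theta hF (1 : Fin 2)
  have hsum : σ w + (1 + w) = 0 := by simpa [add_comm, add_left_comm, add_assoc] using hw
  set U : Matrix (Fin 3) (Fin 3) F := !![1, 1, w; 0, 1, 1; 0, 0, 1] with hU
  have hsq : U ^ 2 = !![1, 0, 1; 0, 1, 0; 0, 0, 1] := by
    rw [sq, hU]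
    ext i j
    fin_cases i <;> fin_cases j <;> simp [Matrix.mul_apply, Fin.sum_univ_three, h11]
    linear_combination w * h11
  have h4 : U ^ (2 ^ 2) = 1 := by
    rw [show (2 : ℕ) ^ 2 = 2 * 2 from rfl, pow_mul, hsq, sq]
    ext i j
    fin_cases i <;> fin_cases j <;> simp [Matrix.mul_apply, Fin.sum_univ_three, h11]
  have hord : orderOf U = 2 ^ 2 := orderOf_eq_prime_pow (n := 1) (by
    rw [pow_one, hsq]
    intro h
    have := congrFun (congrFun h 0) 2
    simp at this) h4
  obtain ⟨hH, hHdet, hiso⟩ := perm_form σ (ι := Fin 3) (π := Fin.rev) Fin.rev_rev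
  obtain ⟨N, hN, hNo⟩ := transport_order hF (Fintype.card_fin 3) hH hHdet U (hiso U (by
    ext i j
    fin_cases i <;> fin_cases j <;>
      simp [Matrix.mul_apply, Fin.sum_univ_three, ad, hU, h11, Fin.rev]
    linear_combination hsum))
  exact ⟨N, hN, hNo.trans hord⟩

include hF in
/-- The class of a block sum, the second block having `p`-power order. -/
theorem exists_class {a b d s : ℕ} (hb : 1 ≤ b) (hab : a + b = d) (hd : 2 ≤ d)
    {N₁ : Matrix (Fin a) (Fin a) F} (h₁ : ad (frob hF) N₁ * N₁ = 1)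
    {N₂ : Matrix (Fin b) (Fin b) F} (h₂ : ad (frob hF) N₂ * N₂ = 1)
    (ho : orderOf N₂ = p ^ s) (hco : (orderOf N₁).Coprime (p ^ s)) :
    ∃ g : ↥(Cfsg.GU d F q) ⧸ Subgroup.center ↥(Cfsg.GU d F q),
      orderOf g = orderOf N₁ * p ^ s := by
  classical
  subst hab
  set σ := frob hF
  let e := Matrix.reindexAlgEquiv F F (finSumFinEquiv : Fin a ⊕ Fin b ≃ Fin (a + b))
  set X : Matrix (Fin a ⊕ Fin b) (Fin a ⊕ Fin b) F := fromBlocks N₁ 0 0 N₂ with hXdef
  have had : ad σ (e X) = e (ad σ X) := by ext; rfl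
  have hX1 : ad σ (e X) * e X = 1 := by
    have e' : ad σ X = fromBlocks (ad σ N₁) 0 0 (ad σ N₂) := by
      ext (i | i) (j | j) <;> simp [hXdef, ad]
    rw [had, ← map_mul, e', hXdef, fromBlocks_multiply]
    simp [h₁, h₂, fromBlocks_one]
  let G : GL (Fin (a + b)) F := ⟨e X, ad σ (e X), mul_eq_one_comm.1 hX1, hX1⟩
  let x : ↥(Cfsg.GU (a + b) F q) := ⟨G, (Cfsg.Agent.S2496.mem_GU_iff_ad hF G).2 hX1⟩
  refine ⟨QuotientGroup.mk x, ?_⟩
  have hpow : ∀ n : ℕ, (((x ^ n : ↥(Cfsg.GU (a + b) F q)) : GL (Fin (a + b)) F) :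
      Matrix (Fin (a + b)) (Fin (a + b)) F) = e (fromBlocks (N₁ ^ n) 0 0 (N₂ ^ n)) := fun n => by
    rw [← fromBlocks_diagonal_pow, map_pow]
    simp only [SubmonoidClass.coe_pow, Units.val_pow_eq_pow_val]
    rfl
  have key : ∀ n : ℕ, x ^ n ∈ Subgroup.center ↥(Cfsg.GU (a + b) F q) ↔ N₁ ^ n = 1 ∧ N₂ ^ n = 1 := by
    intro n
    constructor
    · intro h
      obtain ⟨c, hc⟩ := Cfsg.Lib.Linear.Herm.exists_scalar hF hd _ fun A hA => by
        have := Subgroup.mem_center_iff.1 h
          ⟨Matrix.SpecialLinearGroup.toGL A, hA⟩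
        exact congrArg (fun g : ↥(Cfsg.GU (a + b) F q) =>
          ((g : GL (Fin (a + b)) F) : Matrix (Fin (a + b)) (Fin (a + b)) F)) this
      rw [hpow] at hc
      have hc' : fromBlocks (N₁ ^ n) 0 0 (N₂ ^ n) =
          fromBlocks (Matrix.scalar (Fin a) c) 0 0 (Matrix.scalar (Fin b) c) := by
        apply e.injective
        rw [hc]
        ext i j
        obtain ⟨i, rfl⟩ := finSumFinEquiv.surjective i
        obtain ⟨j, rfl⟩ := finSumFinEquiv.surjective j
        rcases i with i | i <;> rcases j with j | j <;>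
          simp [e, Matrix.diagonal_apply, finSumFinEquiv.injective.eq_iff, -finSumFinEquiv_apply_left,
            -finSumFinEquiv_apply_right]
      obtain ⟨e1, -, -, e2⟩ := fromBlocks_inj.1 hc'
      have hc1 : c = 1 := by
        have h3 : Matrix.scalar (Fin b) (c ^ p ^ s) = 1 := by
          rw [map_pow, ← e2, ← pow_mul, mul_comm, pow_mul, ← ho, pow_orderOf_eq_one, one_pow]
        haveI : NeZero b := ⟨by omega⟩
        have h4 : c ^ p ^ s = 1 := Matrix.scalar_inj.1 (h3.trans (map_one _).symm)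
        have h5 : (c - 1) ^ p ^ s = 0 := by rw [sub_pow_char_pow, h4, one_pow, sub_self]
        exact sub_eq_zero.1 (eq_zero_of_pow_eq_zero h5)
      rw [hc1, map_one] at e1 e2
      exact ⟨e1, e2⟩
    · rintro ⟨e1, e2⟩
      have h : x ^ n = 1 := Subtype.ext (Units.ext (by
        rw [hpow, e1, e2, fromBlocks_one, map_one]; rfl))
      rw [h]
      exact Subgroup.one_mem _
  rw [← ho] at hco
  rw [← ho, ← hco.lcm_eq_mul]
  refine Nat.dvd_antisymm (orderOf_dvd_of_pow_eq_one ?_) (Nat.lcm_dvd ?_ ?_)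
  · rw [← QuotientGroup.mk_pow, QuotientGroup.eq_one_iff, key]
    exact ⟨orderOf_dvd_iff_pow_eq_one.1 (Nat.dvd_lcm_left _ _),
      orderOf_dvd_iff_pow_eq_one.1 (Nat.dvd_lcm_right _ _)⟩
  all_goals
    have h := pow_orderOf_eq_one (QuotientGroup.mk x : ↥(Cfsg.GU (a + b) F q) ⧸ Subgroup.center _)
    rw [← QuotientGroup.mk_pow, QuotientGroup.eq_one_iff, key] at h
  · exact orderOf_dvd_of_pow_eq_one h.1
  · exact orderOf_dvd_of_pow_eq_one h.2

theorem coprime_T {r f k : ℕ} (hr : r.Prime) (hf : 1 ≤ f) (hk : 1 ≤ k) (s : ℕ) :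
    (T (r ^ f) k).Coprime (r ^ s) := by
  refine Nat.Coprime.pow_right _ ((Nat.Prime.coprime_iff_not_dvd hr).2 fun h => ?_).symm
  have hd : r ∣ (r ^ f) ^ k := dvd_pow (dvd_pow_self r (by omega)) (by omega)
  unfold T at h
  split_ifs at h
  · have := Nat.dvd_sub hd h
    rw [Nat.sub_sub_self (Nat.one_le_pow _ _ (pow_pos hr.pos f))] at this
    exact hr.ne_one (Nat.dvd_one.1 this)
  · have := Nat.dvd_sub h hd
    rw [Nat.add_sub_cancel_left] at this
    exact hr.ne_one (Nat.dvd_one.1 this)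

end Cfsg.Lib.PGUOrder
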