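import Mathlib

/-!
# The numerical bound for orders in projective unitary groups

The eigenvalues of a unitary matrix fall into classes of `k` values killed by `T q k`.
-/

set_option autoImplicit false

namespace Cfsg.Lib.PGUOrder

open Finset

/-- The order killing a class of `k` eigenvalues. -/
def T (q k : ℕ) : ℕ := if Even k then q ^ k - 1 else q ^ k + 1

/-- `T q k / (q + 1)`. -/
def A (q k : ℕ) : ℕ := T q k / (q + 1)

theorem dvd_T (q k : ℕ) : q + 1 ∣ T q k := by
  unfold T
  split_ifs with h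
  · obtain ⟨j, rfl⟩ := h
    have h1 : q + 1 ∣ q ^ 2 - 1 := ⟨q - 1, by rw [← Nat.sq_sub_sq q 1, one_pow]⟩
    refine h1.trans ?_
    rw [← two_mul, pow_mul]
    exact Nat.sub_one_dvd_pow_sub_one _ _
  · simpa using (Nat.not_even_iff_odd.1 h).nat_add_dvd_pow_add_pow q 1

theorem mul_A (q k : ℕ) : (q + 1) * A q k = T q k := Nat.mul_div_cancel' (dvd_T q k)

theorem T_le (q k : ℕ) : T q k ≤ q ^ k + 1 := by
  unfold T
  split_ifs <;> omega

theorem T_pos {q k : ℕ} (hq : 2 ≤ q) (hk : 1 ≤ k) : 0 < T q k := by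
  have h : 2 ≤ q ^ k := hq.trans (Nat.le_self_pow (by omega) q)
  unfold T
  split_ifs <;> omega

theorem A_pos {q k : ℕ} (hq : 2 ≤ q) (hk : 1 ≤ k) : 0 < A q k :=
  pos_of_mul_pos_right (lt_of_lt_of_le (T_pos hq hk) (mul_A q k).ge) (Nat.zero_le _)

theorem A_le {q k : ℕ} (hq : 2 ≤ q) (hk : 1 ≤ k) : A q k ≤ q ^ (k - 1) := by
  obtain ⟨j, rfl⟩ := Nat.exists_eq_add_of_le' hk
  rw [Nat.add_sub_cancel]
  refine Nat.le_of_mul_le_mul_left ((mul_A q _).le.trans ((T_le q _).trans ?_)) (by omega : 0 < q + 1)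
  rw [add_mul, one_mul, pow_succ']
  exact Nat.add_le_add_left (Nat.one_le_pow _ _ (by omega)) _

theorem A_lt {q k : ℕ} (hq : 2 ≤ q) (hk : 2 ≤ k) : A q k < q ^ (k - 1) := by
  obtain ⟨j, rfl⟩ := Nat.exists_eq_add_of_le' hk
  refine Nat.lt_of_mul_lt_mul_left (a := q + 1) (lt_of_le_of_lt ((mul_A q _).le.trans (T_le q _)) ?_)
  rw [show j + 2 - 1 = j + 1 from rfl, add_mul, one_mul, pow_succ' q (j + 1)]
  have : q ≤ q ^ (j + 1) := Nat.le_self_pow (by omega) q
  omega

theorem A_one {q : ℕ} (hq : 2 ≤ q) : A q 1 = 1 := by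
  simp [A, T]

theorem exists_ppow {p : ℕ} (hp : 2 ≤ p) (m : ℕ) :
    ∃ s, m ≤ p ^ s ∧ (2 ≤ m → p ^ s ≤ p * (m - 1)) ∧ (m ≤ 1 → p ^ s = 1) ∧
      (p = 2 → m = 4 → p ^ s = 4) := by
  refine ⟨Nat.clog p m, Nat.le_pow_clog hp m, fun hm => ?_, fun hm => ?_, ?_⟩
  · have h := Nat.pow_pred_clog_lt_self hp hm
    have h0 : 0 < Nat.clog p m := Nat.clog_pos hp hm
    rw [show Nat.clog p m = (Nat.clog p m).pred + 1 by rw [Nat.pred_eq_sub_one]; omega, pow_succ']
    exact Nat.mul_le_mul_left _ (by omega)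
  · rw [Nat.clog_of_right_le_one hm, pow_zero]
  · rintro rfl rfl
    decide

theorem lin_lt_pow {q : ℕ} (hq : 2 ≤ q) : ∀ j : ℕ, (q + 1) * (j + 1) < q ^ (j + 2) := by
  intro j
  induction j with
  | zero =>
    have := Nat.mul_le_mul_left q hq
    rw [sq]
    omega
  | succ j ih =>
    have h1 : (q + 1) * (j + 1 + 1) ≤ (q + 1) * (j + 1) * 2 := by
      rw [mul_assoc]; exact Nat.mul_le_mul_left _ (by omega)
    calc (q + 1) * (j + 1 + 1) ≤ (q + 1) * (j + 1) * 2 := h1
      _ < q ^ (j + 2) * 2 := Nat.mul_lt_mul_of_pos_right ih two_pos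
      _ ≤ q ^ (j + 2) * q := Nat.mul_le_mul_left _ hq
      _ = q ^ (j + 1 + 2) := (pow_succ _ _).symm

set_option maxHeartbeats 1000000 in
/-- The bound on the exponent of a unitary matrix modulo scalars. -/
theorem exponent_bound {ι : Type*} [DecidableEq ι] {p f q d B : ℕ} (hp : p.Prime) (hf : 1 ≤ f)
    (hq : q = p ^ f) (hd : 3 ≤ d) (h32 : ¬ (d = 3 ∧ q = 2)) (hB1 : q ^ (d - 1) ≤ B + 1)
    (hB2 : Even d → q ^ (d - 1) + 1 ≤ B) (hB3 : q = p → Odd d → (p ^ (d - 2) + 1) * p ≤ B)
    (hB4 : q = 2 → Even d → 4 * (2 ^ (d - 3) + 1) ≤ B)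
    (𝒞 : Finset ι) (k e : ι → ℕ) (hk : ∀ c ∈ 𝒞, 1 ≤ k c) (he : ∀ c ∈ 𝒞, 1 ≤ e c)
    (hsum : ∑ c ∈ 𝒞, k c * e c = d) :
    ∃ s, (∀ c ∈ 𝒞, e c ≤ p ^ s) ∧
      (∀ c, 𝒞 = {c} → A q (k c) * p ^ s ≤ B) ∧
      (2 ≤ 𝒞.card → (q + 1) * (∏ c ∈ 𝒞, A q (k c)) * p ^ s ≤ B) := by
  have hp2 := hp.two_le
  have hpq : p ≤ q := hq ▸ Nat.le_self_pow (by omega) p
  have hq2 : 2 ≤ q := hp2.trans hpq
  have hqd : ∀ {i j : ℕ}, i ≤ j → q ^ i ≤ q ^ j := fun h => Nat.pow_le_pow_right (by omega) h
  obtain ⟨s, hs, hs2, hs1, hs4⟩ := exists_ppow hp2 (𝒞.sup e)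
  refine ⟨s, fun c hc => (Finset.le_sup hc).trans hs, ?_, ?_⟩
  · rintro c rfl
    rw [Finset.sum_singleton] at hsum
    rw [Finset.sup_singleton] at hs2 hs1
    have hk' := hk c (Finset.mem_singleton_self c)
    have he' := he c (Finset.mem_singleton_self c)
    rcases Nat.lt_or_ge (e c) 2 with h | h
    · have h1 : e c = 1 := by omega
      rw [h1, mul_one] at hsum
      rw [hs1 (by omega), mul_one, hsum]
      have := A_lt hq2 (by omega : 2 ≤ d)
      omega
    · obtain ⟨j, hj⟩ := Nat.exists_eq_add_of_le' h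
      rw [hj] at hsum hs2
      have hPle : p ^ s ≤ q * (j + 1) := (hs2 (by omega)).trans (by
        rw [show j + 2 - 1 = j + 1 by omega]; exact Nat.mul_le_mul_right _ hpq)
      have hA : A q (k c) * p ^ s ≤ q ^ k c * (j + 1) := by
        refine (Nat.mul_le_mul (A_le hq2 hk') hPle).trans (le_of_eq ?_)
        rw [← mul_assoc, ← pow_succ, Nat.sub_add_cancel hk']
      have hlt : q ^ k c * (j + 1) < q ^ (d - 1) := by
        rw [show d - 1 = k c + (k c * (j + 1) - 1) by
          rw [← hsum, Nat.mul_succ]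
          have : 0 < k c * (j + 1) := Nat.mul_pos hk' (Nat.succ_pos _)
          omega, pow_add]
        refine Nat.mul_lt_mul_of_pos_left ?_ (pow_pos (by omega) _)
        rcases Nat.lt_or_ge (k c) 2 with hk1 | hk2
        · have hk1' : k c = 1 := by omega
          rw [hk1', one_mul] at hsum ⊢
          rcases j with _ | _ | j
          · omega
          · have : q ≠ 2 := fun h => h32 ⟨by omega, h⟩
            simp only [Nat.add_sub_cancel, Nat.zero_add, pow_one]
            omega
          · simp only [Nat.add_sub_cancel]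
            refine lt_of_lt_of_le ?_ (Nat.pow_le_pow_left hq2 _)
            have := Nat.lt_two_pow_self (n := j + 1)
            rw [pow_succ]
            omega
        · refine lt_of_lt_of_le (Nat.lt_two_pow_self (n := j + 1)) ((Nat.pow_le_pow_left hq2 _).trans (hqd ?_))
          have : 2 * (j + 1) ≤ k c * (j + 1) := Nat.mul_le_mul_right _ hk2
          omega
      omega
  intro hcard
  set m := 𝒞.sup e with hm
  obtain ⟨c0, hc0, hmc⟩ := Finset.exists_mem_eq_sup 𝒞 (Finset.card_pos.1 (by omega)) e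
  rw [← hm] at hmc
  have hm1 : 1 ≤ m := hmc ▸ he c0 hc0
  have hS : (∑ c ∈ 𝒞, k c) + k c0 * (m - 1) ≤ d := by
    rw [← hsum, ← Finset.add_sum_erase _ _ hc0, ← Finset.add_sum_erase _ (fun c => k c * e c) hc0, hmc,
      Nat.mul_sub, mul_one]
    have h1 : k c0 ≤ k c0 * e c0 := Nat.le_mul_of_pos_right _ (he c0 hc0)
    have h2 : ∑ c ∈ 𝒞.erase c0, k c ≤ ∑ c ∈ 𝒞.erase c0, k c * e c :=
      Finset.sum_le_sum fun c hc => Nat.le_mul_of_pos_right _ (he c (Finset.mem_of_mem_erase hc))
    omega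
  have hrS : 𝒞.card ≤ ∑ c ∈ 𝒞, k c := by
    rw [Finset.card_eq_sum_ones]; exact Finset.sum_le_sum hk
  have hprod : (∏ c ∈ 𝒞, A q (k c)) * q ^ 𝒞.card ≤ q ^ (∑ c ∈ 𝒞, k c) := by
    rw [← Finset.prod_const, ← Finset.prod_mul_distrib, ← Finset.prod_pow_eq_pow_sum]
    exact Finset.prod_le_prod' fun c hc => (Nat.mul_le_mul_right _ (A_le hq2 (hk c hc))).trans
      (by rw [← pow_succ, Nat.sub_add_cancel (hk c hc)])
  have hkm : m - 1 ≤ k c0 * (m - 1) := Nat.le_mul_of_pos_left _ (hk c0 hc0)
  -- the general estimate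
  have key : ∀ x, (q + 1) * p ^ s < q ^ (x + 1) → (∑ c ∈ 𝒞, k c) + x + 2 ≤ d + 𝒞.card →
      (q + 1) * (∏ c ∈ 𝒞, A q (k c)) * p ^ s ≤ B := by
    intro x hx hle
    have h1 : (q + 1) * (∏ c ∈ 𝒞, A q (k c)) * p ^ s * q ^ 𝒞.card <
        q ^ (d - 1) * q ^ 𝒞.card := by
      calc (q + 1) * (∏ c ∈ 𝒞, A q (k c)) * p ^ s * q ^ 𝒞.card
          = (q + 1) * p ^ s * ((∏ c ∈ 𝒞, A q (k c)) * q ^ 𝒞.card) := by ring
        _ ≤ (q + 1) * p ^ s * q ^ (∑ c ∈ 𝒞, k c) := Nat.mul_le_mul_left _ hprod
        _ < q ^ (x + 1) * q ^ (∑ c ∈ 𝒞, k c) := Nat.mul_lt_mul_of_pos_right hx (pow_pos (by omega) _)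
        _ ≤ q ^ (d - 1) * q ^ 𝒞.card := by rw [← pow_add, ← pow_add]; exact hqd (by omega)
    have := Nat.lt_of_mul_lt_mul_right h1
    omega
  have hP : 2 ≤ m → p ^ s ≤ q * (m - 1) := fun h => (hs2 h).trans (Nat.mul_le_mul_right _ hpq)
  rcases Nat.lt_or_ge m 2 with hm' | hm'
  · -- all multiplicities one
    have hs' : p ^ s = 1 := hs1 (by omega)
    have hSd : ∑ c ∈ 𝒞, k c = d := by
      rw [← hsum]
      refine Finset.sum_congr rfl fun c hc => ?_
      have h1 : e c ≤ m := hm ▸ Finset.le_sup hc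
      have h2 := he c hc
      rw [show e c = 1 by omega, mul_one]
    rcases Nat.lt_or_ge 𝒞.card 3 with h3 | h3
    · obtain ⟨a, b, hab, rfl⟩ := Finset.card_eq_two.1 (by omega : 𝒞.card = 2)
      rw [Finset.prod_pair hab, hs', mul_one]
      rw [Finset.sum_pair hab] at hSd
      have ha := hk a (by simp)
      have hb := hk b (by simp)
      have hone : ∀ x, 1 + x = d → (q + 1) * (A q 1 * A q x) ≤ B := by
        intro x hx
        rw [A_one hq2, one_mul, mul_A, show x = d - 1 by omega]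
        rcases Nat.even_or_odd d with h | h
        · exact (T_le _ _).trans (hB2 h)
        · have : Even (d - 1) := Nat.Odd.sub_odd h odd_one
          rw [T, if_pos this]
          omega
      by_cases ha1 : k a = 1
      · rw [ha1]; exact hone _ (by omega)
      by_cases hb1 : k b = 1
      · rw [hb1, mul_comm (A q (k a))]; exact hone _ (by omega)
      have h2 : T q (k a) * T q (k b) < (q + 1) * q ^ (d - 1) := by
        rw [← hSd]
        generalize hx : k a = x at *
        generalize hy : k b = y at *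
        have hev : ∀ u v : ℕ, Even u → 2 ≤ u → 2 ≤ v →
            T q u * T q v < (q + 1) * q ^ (u + v - 1) := by
          intro u v hu h2u h2v
          rw [T, if_pos hu]
          refine lt_of_le_of_lt (Nat.mul_le_mul_left _ (T_le q v)) ?_
          have h4 : 1 ≤ q ^ u := Nat.one_le_pow _ _ (by omega)
          have h5 : q ^ u < q ^ (u + v - 1) := Nat.pow_lt_pow_right (by omega) (by omega)
          have h6 : q ^ u * q ^ v = q * q ^ (u + v - 1) := by
            rw [← pow_add, ← pow_succ']; congr 1; omega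
          zify [h4] at h5 h6 ⊢
          nlinarith [pow_nonneg (Int.natCast_nonneg q) v]
        rcases Nat.even_or_odd x with hxe | hxo
        · exact hev x y hxe (by omega) (by omega)
        rcases Nat.even_or_odd y with hye | hyo
        · rw [mul_comm, add_comm x y]; exact hev y x hye (by omega) (by omega)
        have hx3 : 3 ≤ x := by rcases hxo with ⟨j, rfl⟩; omega
        have hy3 : 3 ≤ y := by rcases hyo with ⟨j, rfl⟩; omega
        refine lt_of_le_of_lt (Nat.mul_le_mul (T_le q x) (T_le q y)) ?_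
        have h6 : q ^ x * q ^ y = q * q ^ (x + y - 1) := by
          rw [← pow_add, ← pow_succ']; congr 1; omega
        have h7 : q ^ x ≤ q ^ (x + y - 3) := hqd (by omega)
        have h8 : q ^ y ≤ q ^ (x + y - 3) := hqd (by omega)
        have h9 : q ^ (x + y - 1) = q * q * q ^ (x + y - 3) := by
          rw [mul_assoc, ← pow_succ', ← pow_succ']; congr 1; omega
        have h10 : 4 * q ^ (x + y - 3) ≤ q * q * q ^ (x + y - 3) :=
          Nat.mul_le_mul_right _ (Nat.mul_le_mul hq2 hq2)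
        have h11 : 2 ≤ q ^ (x + y - 3) := hq2.trans (Nat.le_self_pow (by omega) q)
        nlinarith
      have h3' : (q + 1) * (A q (k a) * A q (k b)) < q ^ (d - 1) := by
        refine Nat.lt_of_mul_lt_mul_left (a := q + 1) ?_
        rw [show (q + 1) * ((q + 1) * (A q (k a) * A q (k b))) =
          ((q + 1) * A q (k a)) * ((q + 1) * A q (k b)) by ring, mul_A, mul_A]
        exact h2
      omega
    · refine key 1 ?_ (by omega)
      have := Nat.mul_le_mul_left q hq2
      rw [hs', mul_one, sq]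
      omega
  rcases Nat.lt_or_ge 𝒞.card 3 with h3 | h3
  swap
  · refine key m ?_ (by omega)
    obtain ⟨j, hj⟩ := Nat.exists_eq_add_of_le' hm'
    have hl := lin_lt_pow hq2 j
    have h1 := hP hm'
    rw [hj, show j + 2 - 1 = j + 1 by omega] at h1
    rw [hj, pow_succ']
    calc (q + 1) * p ^ s ≤ (q + 1) * (q * (j + 1)) := Nat.mul_le_mul_left _ h1
      _ = q * ((q + 1) * (j + 1)) := by ring
      _ < q * q ^ (j + 2) := Nat.mul_lt_mul_of_pos_left hl (by omega)
  -- two classes, some repeated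
  by_cases hgood : (q + 1) * p ^ s < q ^ m
  · refine key (m - 1) ?_ (by omega)
    rwa [Nat.sub_add_cancel hm1]
  have hspecial : (m = 2 ∧ q = p ∧ p ^ s = p) ∨ (m = 3 ∧ q = 2 ∧ p ^ s = 4) := by
    have hPm := hs2 hm'
    rcases Nat.lt_or_ge q 3 with hq3 | hq3
    · have hq' : q = 2 := by omega
      have hp' : p = 2 := by omega
      subst hp' hq'
      rcases Nat.lt_or_ge m 5 with h5 | h5
      · interval_cases m
        · exact Or.inl ⟨rfl, rfl, le_antisymm (by omega) (by
            rcases s with _ | s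
            · simp at hs
            · rw [pow_succ']; exact Nat.le_mul_of_pos_right _ (pow_pos two_pos _))⟩
        · refine Or.inr ⟨rfl, rfl, le_antisymm (by omega) ?_⟩
          rcases s with _ | _ | s
          · simp at hs
          · simp at hs
          · rw [pow_succ, pow_succ]
            have := Nat.one_le_pow s 2 two_pos
            omega
        · have := hs4 rfl rfl
          omega
      · exfalso
        refine hgood (lt_of_le_of_lt (Nat.mul_le_mul_left _ hPm) ?_)
        obtain ⟨j, hj⟩ := Nat.exists_eq_add_of_le' h5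
        rw [hj]
        clear * -
        induction j with
        | zero => norm_num
        | succ j ih =>
          rw [show j + 1 + 5 = (j + 5) + 1 by omega, pow_succ]
          omega
    · rcases Nat.lt_or_ge m 3 with hm3 | hm3
      · have hm2 : m = 2 := by omega
        refine Or.inl ⟨hm2, ?_, ?_⟩
        · by_contra hne
          refine hgood ?_
          rw [hm2] at hPm ⊢
          have hf2 : 2 ≤ f := by
            by_contra hlt
            exact hne (by rw [hq, show f = 1 by omega, pow_one])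
          have hpp : p * p ≤ q := by
            rw [hq, ← sq]; exact Nat.pow_le_pow_right (by omega) hf2
          have h2 : p + p ≤ q := le_trans (by nlinarith) hpp
          calc (q + 1) * p ^ s ≤ (q + 1) * p := Nat.mul_le_mul_left _ (by simpa using hPm)
            _ < q ^ 2 := by nlinarith
        · refine le_antisymm (by simpa [hm2] using hPm) ?_
          rcases s with _ | s
          · rw [hm2] at hs; simp at hs
          · rw [pow_succ']; exact Nat.le_mul_of_pos_right _ (pow_pos (by omega) _)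
      · exfalso
        refine hgood (lt_of_le_of_lt (Nat.mul_le_mul_left _ (hP hm')) ?_)
        obtain ⟨j, hj⟩ := Nat.exists_eq_add_of_le' hm3
        rw [hj]
        clear * - hq3
        rw [show j + 3 - 1 = j + 2 by omega]
        have h3 : (q + 1) * (j + 2) < q ^ (j + 2) := by
          induction j with
          | zero =>
            have := Nat.mul_le_mul_left q hq3
            rw [sq]
            omega
          | succ j ih =>
            calc (q + 1) * (j + 1 + 2) ≤ (q + 1) * (j + 2) * 2 := by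
                  rw [mul_assoc]; exact Nat.mul_le_mul_left _ (by omega)
              _ < q ^ (j + 2) * 2 := Nat.mul_lt_mul_of_pos_right ih two_pos
              _ ≤ q ^ (j + 2) * q := Nat.mul_le_mul_left _ (by omega)
              _ = q ^ (j + 1 + 2) := (pow_succ _ _).symm
        calc (q + 1) * (q * (j + 2)) = q * ((q + 1) * (j + 2)) := by ring
          _ < q * q ^ (j + 2) := Nat.mul_lt_mul_of_pos_left h3 (by omega)
          _ = q ^ (j + 3) := (pow_succ' _ _).symm
  by_cases hexact : (∑ c ∈ 𝒞, k c) + m ≤ d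
  · refine key m ?_ (by omega)
    rcases hspecial with ⟨h1, h2, h3⟩ | ⟨h1, h2, h3⟩
    · rw [h1, h3, h2, pow_succ, sq]
      have := Nat.mul_le_mul_left p hp2
      exact Nat.mul_lt_mul_of_pos_right (by omega) (by omega)
    · rw [h1, h3, h2]; norm_num
  obtain ⟨b, hbc, hpair⟩ : ∃ b, b ≠ c0 ∧ 𝒞 = {c0, b} := by
    obtain ⟨x, y, hxy, rfl⟩ := Finset.card_eq_two.1 (by omega : 𝒞.card = 2)
    rcases Finset.mem_insert.1 hc0 with rfl | h
    · exact ⟨y, hxy.symm, rfl⟩
    · rw [Finset.mem_singleton] at h; subst h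
      exact ⟨x, hxy, Finset.pair_comm _ _⟩
  subst hpair
  rw [Finset.sum_pair hbc.symm] at hS hexact hsum
  rw [Finset.prod_pair hbc.symm]
  have hk0 := hk c0 hc0
  have hkb := hk b (by simp)
  have hk01 : k c0 = 1 := by
    by_contra hne
    have : 2 * (m - 1) ≤ k c0 * (m - 1) := Nat.mul_le_mul_right _ (by omega)
    omega
  rw [hk01, one_mul] at hS
  rw [hk01] at hexact
  have hkb' : k b + m = d := by omega
  rw [hk01, A_one hq2, one_mul, mul_A]
  have hTb : T q (k b) ≤ q ^ k b + 1 := T_le _ _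
  rcases hspecial with ⟨h1, h2, h3⟩ | ⟨h1, h2, h3⟩
  · have hkd : k b = d - 2 := by omega
    rw [hkd] at hTb
    rw [h3, hkd]
    rcases Nat.even_or_odd d with h | h
    · have hev : Even (d - 2) := (Nat.even_sub (by omega)).mpr (iff_of_true h even_two)
      rw [T, if_pos hev, h2]
      have : (p ^ (d - 2) - 1) * p < q ^ (d - 1) := by
        rw [h2, show d - 1 = d - 2 + 1 by omega, pow_succ]
        exact Nat.mul_lt_mul_of_pos_right (Nat.sub_lt (pow_pos (by omega) _) one_pos) (by omega)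
      omega
    · exact le_trans (Nat.mul_le_mul_right _ (by rw [← h2]; exact hTb)) (hB3 h2 h)
  · have hkd : k b = d - 3 := by omega
    rw [hkd] at hTb
    rw [h3, hkd]
    rcases Nat.even_or_odd d with h | h
    · exact le_trans (by rw [mul_comm]; exact Nat.mul_le_mul_left _ (by rw [← h2]; exact hTb)) (hB4 h2 h)
    · have hev : Even (d - 3) := Nat.Odd.sub_odd h (by decide)
      rw [T, if_pos hev, h2]
      have h5 : (2 ^ (d - 3) - 1) * 4 < q ^ (d - 1) := by
        rw [h2, show d - 1 = d - 3 + 2 by omega, pow_add]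
        exact Nat.mul_lt_mul_of_pos_right (Nat.sub_lt (pow_pos two_pos _) one_pos) (by norm_num)
      omega

end Cfsg.Lib.PGUOrder
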